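import Cfsg.Agent.Lib.Helper12.TCG.Fi22Uc2688.Main
import Cfsg.Agent.Lib.Helper12.TCG.IndexLe

/-! the upper bound for the index for Fi22Uc2688 (generated, helper12) -/

set_option autoImplicit false
set_option maxRecDepth 100000

namespace Cfsg.Agent.Lib.Helper12.TCG.Fi22Uc2688

open Cfsg.Agent.Lib.Helper12.TC Cfsg.Agent.Lib.Helper12.TCG Cfsg.Agent.Lib.Helper12.Fi22M Cfsg.Agent.Lib.Helper12.Fi22M.PresU4

/-- the subgroup generated by the subgroup words -/
noncomputable def Hs : Subgroup PresU4.Grp :=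
  Subgroup.closure {γ | ∃ w ∈ sw, γ = wprod PresU4.v w}

theorem hH : Hs = Subgroup.closure {γ | ∃ w ∈ sw, γ = wprod PresU4.v w} := rfl

theorem hletsw : lettersK 8 sw = true := by decide

/-- the subgroup has at most `cN` cosets -/
theorem index_le : Finite (PresU4.Grp ⧸ Hs) ∧ Nat.card (PresU4.Grp ⧸ Hs) ≤ cN :=
  main_leW PresU4.v 8 PresU4.cIV (by decide) PresU4.hiv PresU4.hvinv PresU4.hvge PresU4.hgen PresU4.baseL PresU4.hbase PresU4.hlet sw hletsw Hs hH F RW
    finrecs rotW chunks cD cK cR0 cR cN hdefs hchunks hcover hrelc hfin hlen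

end Cfsg.Agent.Lib.Helper12.TCG.Fi22Uc2688
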